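import Mathlib

/-! helper7: formal unramifiedness for the adic topology deduced from an ideal `𝔪` of the base is
equivalent to formal unramifiedness of the reduction modulo `𝔪` (derivation argument). -/

set_option linter.style.haveILetI false
set_option linter.unusedVariables false
set_option linter.unusedSectionVars false

universe u

namespace Groth.Agent.Helper7.AdicUnr

open TensorProduct KaehlerDifferential

/-- If `B/I₀` is formally unramified over `A`, every differential form is, modulo `I₀ Ω`, the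
differential of an element of `I₀`. -/
theorem exists_D_add_mem {A B : Type u} [CommRing A] [CommRing B] [Algebra A B] (I₀ : Ideal B)
    [Algebra.FormallyUnramified A (B ⧸ I₀)] (ω : Ω[B⁄A]) :
    ∃ x ∈ I₀, ω - D A B x ∈ (I₀ • ⊤ : Submodule B Ω[B⁄A]) := by
  have hsurj : Function.Surjective (algebraMap B (B ⧸ I₀)) := Ideal.Quotient.mk_surjective
  have hex := KaehlerDifferential.exact_kerCotangentToTensor_mapBaseChange A B (B ⧸ I₀) hsurj
  obtain ⟨c, hc⟩ := (hex ((1 : B ⧸ I₀) ⊗ₜ[B] ω)).mp (Subsingleton.elim _ _)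
  obtain ⟨x, rfl⟩ := Ideal.toCotangent_surjective _ c
  rw [KaehlerDifferential.kerCotangentToTensor_toCotangent] at hc
  have hx : (x : B) ∈ I₀ := by
    have h0 : algebraMap B (B ⧸ I₀) (x : B) = 0 := x.2
    exact Ideal.Quotient.eq_zero_iff_mem.mp h0
  refine ⟨x, hx, ?_⟩
  have h1 : (1 : B ⧸ I₀) ⊗ₜ[B] (ω - D A B x) = 0 := by
    rw [TensorProduct.tmul_sub, hc, sub_self]
  have h2 := congrArg (TensorProduct.quotTensorEquivQuotSMul Ω[B⁄A] I₀) h1
  rw [TensorProduct.quotTensorEquivQuotSMul_mk_one_tmul, map_zero,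
    Submodule.Quotient.mk_eq_zero] at h2
  exact h2

/-- Core uniqueness statement: square-zero ideal killed by `𝔪`. -/
theorem core {A B : Type u} [CommRing A] [CommRing B] [Algebra A B] (𝔪 : Ideal A)
    [Algebra.FormallyUnramified A (B ⧸ 𝔪.map (algebraMap A B))]
    {S : Type u} [CommRing S] [Algebra A S] (N : Ideal S) (hN : N ^ 2 = ⊥)
    (h𝔪N : ∀ a ∈ 𝔪, ∀ n ∈ N, algebraMap A S a * n = 0)
    (v₁ v₂ : B →ₐ[A] S) (h : ∀ b, v₁ b - v₂ b ∈ N) : v₁ = v₂ := by
  letI : Algebra B S := v₂.toRingHom.toAlgebra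
  haveI : IsScalarTower A B S := IsScalarTower.of_algebraMap_eq (fun a => (v₂.commutes a).symm)
  have e : (Ideal.Quotient.mkₐ A N).comp v₁ = IsScalarTower.toAlgHom A B (S ⧸ N) := by
    refine AlgHom.ext fun b => ?_
    show Ideal.Quotient.mk N (v₁ b) = Ideal.Quotient.mk N (v₂ b)
    exact Ideal.Quotient.eq.mpr (h b)
  let δ : Derivation A B N := derivationToSquareZeroOfLift N hN v₁ e
  have hδ : ∀ b, ((δ b : N) : S) = v₁ b - v₂ b := fun b => rfl
  let ℓ : Ω[B⁄A] →ₗ[B] N := δ.liftKaehlerDifferential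
  have hℓD : ∀ b, ℓ (D A B b) = δ b := fun b => δ.liftKaehlerDifferential_comp_D b
  have hI₀N : ∀ x ∈ 𝔪.map (algebraMap A B), ∀ n : N, x • n = 0 := by
    intro x hx n
    apply Subtype.ext
    show algebraMap B S x * (n : S) = 0
    induction hx using Submodule.span_induction with
    | mem y hy =>
      obtain ⟨a, ha, rfl⟩ := hy
      rw [← IsScalarTower.algebraMap_apply]
      exact h𝔪N a ha n n.2
    | zero => simp
    | add y z _ _ hy hz => rw [map_add, add_mul, hy, hz, add_zero]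
    | smul c y _ hy => rw [smul_eq_mul, map_mul, mul_assoc, hy, mul_zero]
  have hδI₀ : ∀ x ∈ 𝔪.map (algebraMap A B), δ x = 0 := by
    intro x hx
    induction hx using Submodule.span_induction with
    | mem y hy =>
      obtain ⟨a, ha, rfl⟩ := hy
      exact δ.map_algebraMap a
    | zero => exact map_zero δ
    | add y z _ _ hy hz => rw [map_add, hy, hz, add_zero]
    | smul c y hy' hy =>
      rw [smul_eq_mul, δ.leibniz, hy, smul_zero, zero_add]
      exact hI₀N y hy' (δ c)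
  have hℓ : ∀ ω, ℓ ω = 0 := by
    intro ω
    obtain ⟨x, hx, hω⟩ := exists_D_add_mem (𝔪.map (algebraMap A B)) ω
    have h1 : ℓ (ω - D A B x) = 0 := by
      refine Submodule.smul_induction_on hω (fun r hr n _ => ?_) (fun x y hx hy => ?_)
      · rw [map_smul]; exact hI₀N r hr _
      · rw [map_add, hx, hy, add_zero]
    rw [map_sub, hℓD, hδI₀ x hx, sub_zero] at h1
    exact h1
  refine AlgHom.ext fun b => ?_
  have h0 : ((δ b : N) : S) = 0 := by rw [← hℓD, hℓ]; rfl
  rw [hδ] at h0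
  exact sub_eq_zero.mp h0

theorem sqZero_case {A B : Type u} [CommRing A] [CommRing B] [Algebra A B] (𝔪 : Ideal A)
    [Algebra.FormallyUnramified A (B ⧸ 𝔪.map (algebraMap A B))]
    {E : Type u} [CommRing E] [Algebra A E] (k : ℕ) (hk : (𝔪 ^ k).map (algebraMap A E) = ⊥)
    (J : Ideal E) (hJ : J ^ 2 = ⊥) (v₁ v₂ : B →ₐ[A] E) (h : ∀ b, v₁ b - v₂ b ∈ J) : v₁ = v₂ := by
  have key : ∀ i : ℕ, ∀ b, v₁ b - v₂ b ∈ (𝔪 ^ i).map (algebraMap A E) * J := by
    intro i
    induction i with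
    | zero =>
      intro b
      rw [pow_zero, Ideal.one_eq_top, Ideal.map_top, Ideal.top_mul]
      exact h b
    | succ i ih =>
      set N0 : Ideal E := (𝔪 ^ i).map (algebraMap A E) * J with hN0
      set N1 : Ideal E := (𝔪 ^ (i + 1)).map (algebraMap A E) * J with hN1
      let mkS : E →ₐ[A] E ⧸ N1 := Ideal.Quotient.mkₐ A N1
      have hmkS : Function.Surjective mkS := Ideal.Quotient.mk_surjective
      let N' : Ideal (E ⧸ N1) := N0.map mkS
      have hN0J : N0 ≤ J := Ideal.mul_le_right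
      have hN' : N' ^ 2 = ⊥ := by
        have h1 : N0 ^ 2 ≤ J ^ 2 := Ideal.pow_right_mono hN0J 2
        rw [hJ, le_bot_iff] at h1
        show (N0.map mkS) ^ 2 = ⊥
        rw [← Ideal.map_pow, h1, Ideal.map_bot]
      have h𝔪N' : ∀ a ∈ 𝔪, ∀ n ∈ N', algebraMap A (E ⧸ N1) a * n = 0 := by
        intro a ha n hn
        obtain ⟨n₀, hn₀, rfl⟩ := (Ideal.mem_map_iff_of_surjective mkS hmkS).mp hn
        have h2 : algebraMap A E a * n₀ ∈ N1 := by
          have h3 : algebraMap A E a * n₀ ∈ 𝔪.map (algebraMap A E) * N0 :=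
            Ideal.mul_mem_mul (Ideal.mem_map_of_mem _ ha) hn₀
          have h4 : 𝔪.map (algebraMap A E) * N0 = N1 := by
            rw [hN0, hN1, ← mul_assoc, ← Ideal.map_mul, ← pow_succ']
          rwa [h4] at h3
        have h5 : algebraMap A (E ⧸ N1) a * mkS n₀ = mkS (algebraMap A E a * n₀) := by
          rw [map_mul]; rfl
        rw [h5]
        exact Ideal.Quotient.eq_zero_iff_mem.mpr h2
      have h' : ∀ b, (mkS.comp v₁) b - (mkS.comp v₂) b ∈ N' := by
        intro b
        have : (mkS.comp v₁) b - (mkS.comp v₂) b = mkS (v₁ b - v₂ b) := by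
          simp [map_sub]
        rw [this]
        exact Ideal.mem_map_of_mem _ (ih b)
      have heq := core 𝔪 N' hN' h𝔪N' (mkS.comp v₁) (mkS.comp v₂) h'
      intro b
      have h6 := congrArg (fun f => f b) heq
      exact Ideal.Quotient.eq.mp h6
  refine AlgHom.ext fun b => ?_
  have := key k b
  rw [hk, Ideal.bot_mul, Ideal.mem_bot] at this
  exact sub_eq_zero.mp this

theorem nilpotent_case {A B : Type u} [CommRing A] [CommRing B] [Algebra A B] (𝔪 : Ideal A)
    [Algebra.FormallyUnramified A (B ⧸ 𝔪.map (algebraMap A B))] (k : ℕ)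
    {E : Type u} [CommRing E] (J : Ideal E) (hJ : IsNilpotent J) :
    ∀ [Algebra A E], (𝔪 ^ k).map (algebraMap A E) = ⊥ →
      ∀ v₁ v₂ : B →ₐ[A] E, (∀ b, v₁ b - v₂ b ∈ J) → v₁ = v₂ := by
  refine Ideal.IsNilpotent.induction_on (S := E) J hJ
    (P := fun S _ I => ∀ [Algebra A S], (𝔪 ^ k).map (algebraMap A S) = ⊥ →
      ∀ v₁ v₂ : B →ₐ[A] S, (∀ b, v₁ b - v₂ b ∈ I) → v₁ = v₂) ?_ ?_
  · intro S _ I hI _ hk v₁ v₂ h
    exact sqZero_case 𝔪 k hk I hI v₁ v₂ h
  · intro S _ I J' hIJ hPI hPJ _ hk v₁ v₂ h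
    have hk' : (𝔪 ^ k).map (algebraMap A (S ⧸ I)) = ⊥ := by
      have : algebraMap A (S ⧸ I) = (Ideal.Quotient.mk I).comp (algebraMap A S) := rfl
      rw [this, ← Ideal.map_map, hk, Ideal.map_bot]
    have h1 : (Ideal.Quotient.mkₐ A I).comp v₁ = (Ideal.Quotient.mkₐ A I).comp v₂ := by
      apply hPJ hk'
      intro b
      have : ((Ideal.Quotient.mkₐ A I).comp v₁) b - ((Ideal.Quotient.mkₐ A I).comp v₂) b =
          Ideal.Quotient.mk I (v₁ b - v₂ b) := by simp [map_sub]
      rw [this]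
      exact Ideal.mem_map_of_mem _ (h b)
    apply hPI hk
    intro b
    have h2 := congrArg (fun f => f b) h1
    exact Ideal.Quotient.eq.mp h2

theorem main {A B : Type u} [CommRing A] [CommRing B] [Algebra A B] (𝔪 : Ideal A) :
    (∀ (E : Type u) [CommRing E] [Algebra A E], (∃ k : ℕ, (𝔪 ^ k).map (algebraMap A E) = ⊥) →
      ∀ J : Ideal E, IsNilpotent J → ∀ v₁ v₂ : B →ₐ[A] E,
        (∀ b : B, Ideal.Quotient.mk J (v₁ b) = Ideal.Quotient.mk J (v₂ b)) → v₁ = v₂) ↔
    Subsingleton (Ω[B ⧸ 𝔪.map (algebraMap A B)⁄A ⧸ 𝔪]) := by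
  rw [← Algebra.formallyUnramified_iff]
  constructor
  · intro H
    rw [Algebra.FormallyUnramified.iff_comp_injective]
    intro C _ _ I hI w₁ w₂ hw
    letI : Algebra A C := ((algebraMap (A ⧸ 𝔪) C).comp (Ideal.Quotient.mk 𝔪)).toAlgebra
    haveI : IsScalarTower A (A ⧸ 𝔪) C := IsScalarTower.of_algebraMap_eq (fun a => rfl)
    have hk : (𝔪 ^ 1).map (algebraMap A C) = ⊥ := by
      rw [pow_one, eq_bot_iff, Ideal.map_le_iff_le_comap]
      intro a ha
      show algebraMap (A ⧸ 𝔪) C (Ideal.Quotient.mk 𝔪 a) = 0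
      rw [Ideal.Quotient.eq_zero_iff_mem.mpr ha, map_zero]
    let p : B →ₐ[A] B ⧸ 𝔪.map (algebraMap A B) := Ideal.Quotient.mkₐ A _
    have hp : Function.Surjective p := Ideal.Quotient.mk_surjective
    have h1 : (w₁.restrictScalars A).comp p = (w₂.restrictScalars A).comp p := by
      apply H C ⟨1, hk⟩ I ⟨2, by rw [hI]; rfl⟩
      intro b
      have := congrArg (fun f => f (p b)) hw
      exact this
    refine AlgHom.ext fun x => ?_
    obtain ⟨b, rfl⟩ := hp x
    exact congrArg (fun f => f b) h1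
  · intro hfu E _ _ hk J hJ v₁ v₂ h
    obtain ⟨k, hk⟩ := hk
    haveI : Algebra.FormallyUnramified A (A ⧸ 𝔪) := Algebra.FormallyUnramified.quotient 𝔪
    haveI : Algebra.FormallyUnramified A (B ⧸ 𝔪.map (algebraMap A B)) :=
      Algebra.FormallyUnramified.comp A (A ⧸ 𝔪) _
    exact nilpotent_case 𝔪 k J hJ hk v₁ v₂ (fun b => Ideal.Quotient.eq.mp (h b))

end Groth.Agent.Helper7.AdicUnr
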